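import Cfsg.Agent.H0.TC
set_option maxRecDepth 100000
namespace H0.TCS622
open H0
noncomputable def r0 : TC.WTr := (.node (.node (.node (.node (.node (.node (.leaf [0] 0 0 false) (.leaf [4, 4, 4] 13 0 false)) (.node (.leaf [0, 1, 0, 2, 5] 23 0 false) (.leaf [6] 6 0 false))) (.node (.node (.leaf [0, 2, 5, 2, 0] 23 2 false) (.leaf [8, 4, 6] 19 0 false)) (.node (.leaf [0, 2, 2, 2, 0] 22 0 true) (.leaf [8] 8 0 false)))) (.node (.node (.node (.leaf [1, 4, 1, 0, 2] 23 4 true) (.leaf [7, 3, 1, 7, 2] 31 3 false)) (.node (.leaf [1] 1 1 false) (.leaf [6, 3, 8, 5] 20 0 true))) (.node (.node (.leaf [1, 1, 0, 3, 0] 22 1 false) (.leaf [1, 4, 8, 5, 2] 32 1 false)) (.node (.leaf [5] 4 0 false) (.leaf [4, 6, 5] 19 1 false))))) (.node (.node (.node (.node (.leaf [1, 0, 2, 5, 2] 23 1 false) (.leaf [1, 7, 2, 3, 7] 31 2 true)) (.node (.leaf [1] 1 1 false) (.leaf [2, 5, 7, 3, 1] 31 1 false)))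 (.node (.node (.leaf [4, 0, 6, 7, 6] 30 3 true) (.leaf [6] 6 0 false)) (.node (.leaf [8, 5, 7, 6] 20 2 true) (.leaf [7, 2, 8, 1] 28 3 false)))) (.node (.node (.node (.leaf [0] 0 0 false) (.leaf [5, 5, 5] 13 0 true)) (.node (.leaf [7, 2, 3, 1, 7] 29 4 false) (.leaf [8, 7, 8] 12 0 false))) (.node (.node (.leaf [1] 1 1 false) (.leaf [4, 3, 5] 14 3 false)) (.node (.leaf [3, 5, 6] 14 0 false) (.leaf [2, 8, 1, 7] 28 1 true)))))) (.node (.node (.node (.node (.node (.leaf [2, 5, 2, 0, 1] 23 3 false) (.leaf [8, 3, 6, 7] 20 0 false)) (.node (.leaf [2, 2, 0, 3, 0] 22 2 true) (.leaf [7] 7 0 false))) (.node (.node (.leaf [0, 3, 0, 1, 1] 22 3 false) (.leaf [4] 4 1 false)) (.node (.leaf [4, 3, 5, 5, 3, 5, 3, 7] 15 0 false) (.leaf [0, 8, 0] 27 1 false)))) (.node (.node (.node (.leaf [0] 0 0 false) (.leaf [2, 0, 1, 0, 2] 23 5 false)) (.node (.leaf [3] 3 0 false) (.leaf [4, 8, 3, 6] 20 4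 false))) (.node (.node (.leaf [4, 1, 0, 2, 0] 23 5 true) (.leaf [7, 4, 8, 3] 20 3 false)) (.node (.leaf [0, 6, 7, 6, 1] 30 4 true) (.leaf [6, 7, 6, 7, 6] 9 5 false))))) (.node (.node (.node (.node (.leaf [8, 0, 8] 27 0 false) (.leaf [4] 4 1 false)) (.node (.leaf [1] 1 1 false) (.leaf [6, 1, 4, 0, 6] 30 1 true))) (.node (.node (.leaf [7, 2, 5, 7, 3] 31 0 false) (.leaf [5, 8, 4] 19 3 false)) (.node (.leaf [3] 3 0 false) (.leaf [1, 8, 7, 2] 28 1 false)))) (.node (.node (.node (.leaf [2] 1 0 false) (.leaf [2, 6, 7, 6, 0] 30 1 false)) (.node (.leaf [1, 7, 3, 7, 2] 29 1 false) (.leaf [8, 2, 8, 1] 28 0 true))) (.node (.node (.leaf [2, 0, 3, 0, 2] 22 3 true) (.leaf [3, 8, 5, 7] 20 1 true)) (.leaf [1, 0, 2, 0, 1] 23 0 true))))))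
noncomputable def tS : Tr := (.leaf (nat_lit 0xffbfdb4fb873b9fe26833b3fefd8db39feff8e1209626ffc384aaa5c26cdaad4eba7febc6609156b88737198ffff9961cef56af16e5e09b6ffe3a77af4c8a74c3246e13ff9988c493984912975d377fe64222a198ad55048bc88ff91d8eb75d115964a5484bfe792c8c8cc5608c7c7e3eff9ec7a852ba50ea34089d7fe782c0f10a7a2a0448a44ff88cc22330a24462b000abfe32111185221190005027ff884a641191cc4c2512003fe000000000000004c2411))
noncomputable def tJ : Tr := (.leaf (nat_lit 0x20660031b610010201035b700950510406054a5250301035300209200100443019404343a422420213060a030012203000a30003028000100020021822000020380110302102080202100118000012100000800777777000))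
noncomputable def tQ : Tr := (.leaf (nat_lit 0x0))
noncomputable def tR : TC.WTr := r0
def hl : List ℕ := [3, 4, 5, 5, 4, 6, 7, 8]
def B : List (List ℕ) := [[0, 0], [1, 2], [2, 1], [3, 3], [4, 5], [5, 4], [6, 6], [7, 7], [8, 8], [6, 7, 6, 7, 6, 8], [6, 7, 6, 7, 6, 7, 6, 7, 6, 7, 6, 7], [6, 7, 6, 7, 6, 7, 6, 7, 6, 7, 6, 7], [7, 8, 7, 8], [4, 4, 4, 4], [4, 3, 5, 6], [3, 4, 3, 5, 5, 3, 5, 3, 7], [3, 4, 3, 4, 3, 4, 3, 4, 3, 4], [3, 4, 3, 5, 3, 4, 3, 5, 3, 4, 3, 5], [3, 5, 3, 5, 3, 5, 3, 5, 3, 5], [5, 8, 4, 6], [4, 8, 3, 6, 7], [1, 1, 1, 1, 1, 1], [0, 1, 1, 1, 0, 3], [2, 0, 1, 0, 2, 5], [0, 1, 0, 1, 0, 1, 0, 1, 0, 1, 0, 1, 0, 1, 0, 1], [0, 1, 0, 2, 0, 1, 0, 2, 0, 1, 0, 2, 0, 1, 0, 2, 0, 1, 0, 2], [0, 2, 0, 2, 0, 2, 0, 2, 0, 2, 0, 2, 0, 2, 0, 2], [0, 8, 0, 8], [2, 8, 1, 8, 7], [2, 3, 1, 7, 3, 7], [0, 5, 2, 6, 7, 6], [1, 7, 2, 5, 7, 3], [2, 6, 1, 4, 8, 5]]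
def subs : List (List ℕ) := [[3], [4], [5], [6], [7], [8]]
def ex : List (List ℕ) := []
def inv (x : ℕ) : ℕ := [0, 2, 1, 3, 5, 4, 6, 7, 8].getD x 0
noncomputable def rS : ℕ → ℕ := rowOf tS (nat_lit 8) (nat_lit 255) (nat_lit 90) (nat_lit 1237940039285380274899124223)
noncomputable def rJ : ℕ → ℕ := rowOf tJ (nat_lit 8) (nat_lit 255) (nat_lit 44) (nat_lit 17592186044415)
noncomputable def C : TC.Cfg where
  S := look rS (nat_lit 9) (nat_lit 511)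
  J := look rJ (nat_lit 4) (nat_lit 15)
  Q := lookQ tQ (nat_lit 8) (nat_lit 1) (nat_lit 1)
  R := tR.get
  hl := fun x => hl.contains x
  n := (nat_lit 16)
  M := (nat_lit 16)
  top := (nat_lit 288)
  nl := (nat_lit 9)
  need := (nat_lit 9)
  nr := (nat_lit 7)
theorem k0 : TC.chkRange C 0 1 = true := by decide +kernel
theorem rows0 : ∀ c < (0 + 1) * 64, c < C.M → TC.chkRow C c = true :=
  TC.rows_step (TC.rows_zero C) k0
theorem main {G : Type*} [Group G] (g : ℕ → G) (hB : ∀ r ∈ B, ev g r = 1) (H : Subgroup G)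
    (hH : ∀ w ∈ subs, ev g w ∈ H) :
    H.relIndex (Subgroup.closure (g '' {x | x < 9})) ≠ 0 ∧
      H.relIndex (Subgroup.closure (g '' {x | x < 9})) ≤ 16 :=
  TC.index_le C B subs ex inv hl tR.hint rfl (by decide +kernel) (by decide +kernel)
    (TC.rows_done rows0 (by decide +kernel)) g hB H hH
end H0.TCS622
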